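import Mathlib
import Groth.Agent.H78.TotFrac.Sub

/-!
# Non-zero-divisors of subrings of flat quasi-finite algebras (towards S16441)
-/

set_option autoImplicit false

namespace Groth.Agent.H78.FracFG

universe u

open IsLocalRing Polynomial

section Abstract

variable (A E : Type u) [CommRing A] [IsReduced A] [CommRing E] [Algebra A E]

/-- If `s : E` is a non-zero-divisor on the subring `A[s]`, then it becomes a unit in the
localisation `F` of `E` at the non-zero-divisors of `A` (for `E` flat and quasi-finite over the
reduced ring `A` with finitely many minimal primes). -/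
theorem isUnit_of_aeval_cond (hmin : (minimalPrimes A).Finite) [Module.Flat A E]
    [Algebra.QuasiFinite A E] (F : Type u) [CommRing F] [Algebra E F] [Algebra A F]
    [IsScalarTower A E F] [IsLocalization ((nonZeroDivisors A).map (algebraMap A E)) F]
    (s : E) (hs : ∀ P : A[X], s * Polynomial.aeval s P = 0 → Polynomial.aeval s P = 0) :
    IsUnit (algebraMap E F s) := by
  classical
  set M : Submonoid E := (nonZeroDivisors A).map (algebraMap A E) with hMdef
  let K := FractionRing A
  have hML : M ≤ nonZeroDivisors E := Groth.Agent.H78.TotFrac.map_nonZeroDivisors_le_of_flat A E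
  have hinj : Function.Injective (algebraMap E F) := IsLocalization.injective F hML
  have hg : ∀ y : nonZeroDivisors A, IsUnit (algebraMap A F y) := by
    intro y
    rw [IsScalarTower.algebraMap_apply A E F]
    exact IsLocalization.map_units F (⟨algebraMap A E y, ⟨y, y.2, rfl⟩⟩ : M)
  letI : Algebra K F := (IsLocalization.lift hg).toAlgebra
  haveI : IsScalarTower A K F := IsScalarTower.of_algebraMap_eq' (IsLocalization.lift_comp hg).symm
  haveI : Algebra.QuasiFinite A F := Algebra.QuasiFinite.of_isLocalization M
  haveI : Algebra.QuasiFinite K F := Algebra.QuasiFinite.of_restrictScalars A K F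
  haveI : IsArtinianRing K := Groth.Agent.H78.TotFrac.isArtinianRing_of_isLocalization hmin K
  haveI : Module.Finite K F := Module.Finite.of_quasiFinite
  haveI : IsNoetherianRing K := inferInstance
  haveI : IsNoetherian K F := isNoetherian_of_isNoetherianRing_of_finite K F
  set sF : F := algebraMap E F s with hsF
  let LK : Subalgebra K F := Algebra.adjoin K {sF}
  haveI : Module.Finite K LK := Module.Finite.of_injective LK.val.toLinearMap Subtype.val_injective
  haveI : IsArtinianRing LK := IsArtinianRing.of_finite K LK
  let x' : LK := ⟨sF, Algebra.subset_adjoin (Set.mem_singleton _)⟩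
  have hx' : x' ∈ nonZeroDivisors LK := by
    rw [mem_nonZeroDivisors_iff_right]
    intro z hz
    have h1 : (z : F) * sF = 0 := congrArg Subtype.val hz
    have hzmem : (z : F) ∈ Algebra.adjoin K {sF} := z.2
    rw [Algebra.adjoin_singleton_eq_range_aeval, AlgHom.mem_range] at hzmem
    obtain ⟨p, hp⟩ := hzmem
    obtain ⟨b, hbM, hb⟩ := IsLocalization.integerNormalization_spec (nonZeroDivisors A) p
    set P : A[X] := IsLocalization.integerNormalization (nonZeroDivisors A) p with hP
    have h2 : algebraMap E F (Polynomial.aeval s P) = b • (z : F) := by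
      have hbp : b • p = (algebraMap A K b) • p := (algebraMap_smul K b p).symm
      rw [← Polynomial.aeval_algebraMap_apply, ← hsF, ← Polynomial.aeval_map_algebraMap K sF P, hb,
        hbp, map_smul, hp, algebraMap_smul]
    have h3 : algebraMap E F (s * Polynomial.aeval s P) = 0 := by
      rw [map_mul, h2, ← hsF, mul_smul_comm, mul_comm, h1, smul_zero]
    have h4 : s * Polynomial.aeval s P = 0 := hinj (by rw [h3, map_zero])
    have h5 : b • (z : F) = 0 := by
      rw [← h2, hs P h4, map_zero]
    have h6 : (z : F) = 0 := by
      rw [Algebra.smul_def] at h5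
      exact (hg ⟨b, hbM⟩).mul_right_eq_zero.mp h5
    exact Subtype.ext h6
  have hu : IsUnit x' := IsArtinianRing.isUnit_of_mem_nonZeroDivisors hx'
  exact hu.map LK.val

end Abstract

end Groth.Agent.H78.FracFG
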