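import Mathlib
import Groth.Prelude.Def_EssEt
import Groth.Prelude.Def_Hensel
import Groth.Agent.H78.EssEtSub
import Groth.Agent.H78.FracFG.Nzd
import Groth.Agent.H14.HensProp.EssEtSH

/-!
# Essentially étale local subalgebras of a strict henselization: finite sets, flatness,
non-zero-divisors (towards S16441)
-/

set_option autoImplicit false

namespace Groth.Agent.H78.FracFG

universe u

open IsLocalRing Polynomial

section Strict

variable (A S : Type u) [CommRing A] [IsLocalRing A]
  [CommRing S] [IsLocalRing S] [Algebra A S] [IsLocalHom (algebraMap A S)]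
  [Hensel.IsStrictHenselization A S]

/-- Every finite subset of the strict henselization lies in an essentially étale local
subalgebra. -/
theorem exists_essEtale_finset (s : Finset S) :
    ∃ E : Subalgebra A S, (s : Set S) ⊆ E ∧ ∃ _ : IsLocalRing E,
      EGA4loc.IsEssentiallyEtale A E := by
  classical
  have hs' : Groth.Agent.H14.HensProp.InEtImage A S (s : Set S) :=
    Groth.Agent.H14.HensProp.InEtImage.finset s fun x _ =>
      Groth.Agent.H14.HensProp.inEtImage_of_isStrictHenselization A S x
  obtain ⟨C, _, _, hCet, φ, hφ⟩ := hs'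
  obtain ⟨q, hqp, ψ, hq, hqA, hψ, hinj⟩ := Groth.Agent.H78.EssEtSub.exists_essEtale_of_algHom A S φ
  let e : Localization.AtPrime q ≃ₐ[A] ψ.range := AlgEquiv.ofInjective ψ hinj
  haveI : IsLocalRing ψ.range := RingEquiv.isLocalRing e.toRingEquiv
  refine ⟨ψ.range, ?_, inferInstance, ⟨C, inferInstance, inferInstance, q, hqp, hCet, hqA,
    ⟨e.symm⟩⟩⟩
  intro x hx
  obtain ⟨c, hc⟩ := hφ hx
  exact ⟨algebraMap C (Localization.AtPrime q) c, by rw [← hc]; exact hψ c⟩

/-- The strict henselization is faithfully flat over each of its essentially étale local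
subalgebras. -/
theorem faithfullyFlat_of_isEssentiallyEtale (E : Subalgebra A S) [IsLocalRing E]
    (hE : EGA4loc.IsEssentiallyEtale A E) :
    IsLocalHom (algebraMap E S) ∧ Module.FaithfullyFlat E S := by
  have hS : Hensel.IsStrictHenselization A S := inferInstance
  haveI hAE : IsLocalHom (algebraMap A E) := by
    haveI : IsLocalHom ((algebraMap E S).comp (algebraMap A E)) := by
      rw [← IsScalarTower.algebraMap_eq A E S]
      infer_instance
    exact isLocalHom_of_comp (algebraMap A E) (algebraMap E S)
  haveI : Algebra.EssFiniteType A E := Groth.Agent.H14.HensProp.EssEtSH.essFiniteType hE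
  haveI : Algebra.FormallyUnramified A E := Groth.Agent.H14.HensProp.EssEtSH.formallyUnramified hE
  obtain ⟨hflat, hqf⟩ := Groth.Agent.H78.TotFrac.flat_quasiFinite_of_isEssentiallyEtale A E hE
  haveI hES : IsLocalHom (algebraMap E S) := by
    set P : Ideal E := (maximalIdeal S).comap (algebraMap E S) with hP
    haveI : P.IsPrime := Ideal.comap_isPrime _ _
    have hle : P ≤ maximalIdeal E := IsLocalRing.le_maximalIdeal (Ideal.IsPrime.ne_top inferInstance)
    have h1 : P.under A = maximalIdeal A := by
      rw [Ideal.under_def, hP, Ideal.comap_comap, ← IsScalarTower.algebraMap_eq A E S]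
      exact IsLocalRing.maximalIdeal_comap (algebraMap A S)
    have h2 : (maximalIdeal E).under A = maximalIdeal A := by
      rw [Ideal.under_def]
      exact IsLocalRing.maximalIdeal_comap (algebraMap A E)
    have hPeq : P = maximalIdeal E :=
      Algebra.QuasiFinite.eq_of_le_of_under_eq (R := A) P (maximalIdeal E) hle (h1.trans h2.symm)
    exact ((IsLocalRing.local_hom_TFAE (algebraMap E S)).out 0 4).mpr hPeq
  have hS' : Hensel.IsStrictHenselization E S :=
    Groth.Agent.H14.HensProp.EssEtSH.isStrictHenselization_of_tower A S E hS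
  exact ⟨hES, Groth.Agent.H3.SH.faithfullyFlat E hS'⟩

variable [IsReduced A]

/-- A non-zero-divisor of an `A`-subalgebra of the strict henselization of a reduced local ring
with finitely many minimal primes is a non-zero-divisor of the strict henselization. -/
theorem mem_nonZeroDivisors_of_subalgebra (hmin : (minimalPrimes A).Finite) (D : Subalgebra A S)
    (s : D) (hs : s ∈ nonZeroDivisors D) : (s : S) ∈ nonZeroDivisors S := by
  classical
  rw [mem_nonZeroDivisors_iff_right]
  intro z hz
  obtain ⟨E, hsub, hEloc, hE⟩ := exists_essEtale_finset A S {(s : S), z}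
  have hsE : (s : S) ∈ E := hsub (by simp)
  have hzE : z ∈ E := hsub (by simp)
  obtain ⟨hflat, hqf⟩ := Groth.Agent.H78.TotFrac.flat_quasiFinite_of_isEssentiallyEtale A E hE
  haveI hloc : IsLocalization ((nonZeroDivisors A).map (algebraMap A E)) (FractionRing E) :=
    (Groth.Agent.H78.TotFrac.main_abstract A E hmin).1
  let sE : E := ⟨s, hsE⟩
  let zE : E := ⟨z, hzE⟩
  have hvalE : ∀ P : A[X], ((Polynomial.aeval sE P : E) : S) = Polynomial.aeval (s : S) P :=
    fun P => (Polynomial.aeval_algHom_apply E.val sE P).symm
  have hvalD : ∀ P : A[X], ((Polynomial.aeval s P : D) : S) = Polynomial.aeval (s : S) P :=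
    fun P => (Polynomial.aeval_algHom_apply D.val s P).symm
  have hcond : ∀ P : A[X], sE * Polynomial.aeval sE P = 0 → Polynomial.aeval sE P = 0 := by
    intro P hP
    have h1 : (s : S) * Polynomial.aeval (s : S) P = 0 := by
      have := congrArg (Subtype.val) hP
      rw [← hvalE]
      exact this
    have h2 : s * Polynomial.aeval s P = 0 := by
      apply Subtype.ext
      change (s : S) * ((Polynomial.aeval s P : D) : S) = 0
      rw [hvalD]
      exact h1
    have h3 : Polynomial.aeval s P = 0 := by
      rw [mul_comm] at h2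
      exact (mem_nonZeroDivisors_iff_right.mp hs) _ h2
    apply Subtype.ext
    rw [hvalE, ← hvalD, h3]
    rfl
  have hunit : IsUnit (algebraMap E (FractionRing E) sE) :=
    isUnit_of_aeval_cond A E hmin (FractionRing E) sE hcond
  have hzs : zE * sE = 0 := Subtype.ext hz
  have h4 : algebraMap E (FractionRing E) zE * algebraMap E (FractionRing E) sE = 0 := by
    rw [← map_mul, hzs, map_zero]
  have h5 : algebraMap E (FractionRing E) zE = 0 := hunit.mul_left_eq_zero.mp h4
  have h6 : zE = 0 := IsFractionRing.injective E (FractionRing E) (by rw [h5, map_zero])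
  exact congrArg Subtype.val h6

end Strict

end Groth.Agent.H78.FracFG
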