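import Mathlib
import Groth.Prelude.Def_EssEt
import Groth.Prelude.Def_Hensel
import Groth.Agent.H78.FracFG.Strict

/-!
# Finite generation of the total ring of fractions of a local subalgebra of the strict
henselization (S16441)
-/

set_option autoImplicit false

namespace Groth.Agent.H78.FracFG

universe u

open IsLocalRing Polynomial

/-- Faithfully flat descent of a quotient `w / c`. -/
theorem exists_algebraMap_eq_of_mul_eq {R S : Type*} [CommRing R] [CommRing S] [Algebra R S]
    [Module.FaithfullyFlat R S] (c w : R) (x : S) (hc : algebraMap R S c ∈ nonZeroDivisors S)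
    (h : algebraMap R S c * x = algebraMap R S w) : ∃ r : R, algebraMap R S r = x := by
  have h1 : w ∈ ((Ideal.span {c}).map (algebraMap R S)).comap (algebraMap R S) := by
    rw [Ideal.mem_comap, ← h]
    exact Ideal.mul_mem_right _ _ (Ideal.mem_map_of_mem _ (Ideal.mem_span_singleton_self c))
  rw [Ideal.comap_map_eq_self_of_faithfullyFlat] at h1
  obtain ⟨r, hr⟩ := Ideal.mem_span_singleton'.mp h1
  refine ⟨r, ?_⟩
  have h2 : (algebraMap R S r - x) * algebraMap R S c = 0 := by
    rw [sub_mul, ← map_mul, hr, ← h, mul_comm x, sub_self]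
  have h3 := (mem_nonZeroDivisors_iff_right.mp hc) _ h2
  exact sub_eq_zero.mp h3

/-- A finite module over the total ring of fractions is generated, up to non-zero-divisors of
`A`, by a finite set over `A`. -/
theorem exists_finset_span (A : Type u) [CommRing A] (V : Type u) [AddCommGroup V] [Module A V]
    [Module (FractionRing A) V] [IsScalarTower A (FractionRing A) V]
    [Module.Finite (FractionRing A) V] :
    ∃ G : Finset V, ∀ y : V, ∃ b ∈ nonZeroDivisors A, b • y ∈ Submodule.span A (G : Set V) := by
  classical
  let K := FractionRing A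
  obtain ⟨G, hG⟩ := (Module.Finite.fg_top : (⊤ : Submodule K V).FG)
  refine ⟨G, ?_⟩
  intro y
  have hy : y ∈ Submodule.span K (G : Set V) := by rw [hG]; trivial
  induction hy using Submodule.span_induction with
  | mem y hy => exact ⟨1, Submonoid.one_mem _, by rw [one_smul]; exact Submodule.subset_span hy⟩
  | zero => exact ⟨1, Submonoid.one_mem _, by rw [smul_zero]; exact Submodule.zero_mem _⟩
  | add y₁ y₂ _ _ h₁ h₂ =>
    obtain ⟨b₁, hb₁, h₁⟩ := h₁
    obtain ⟨b₂, hb₂, h₂⟩ := h₂
    refine ⟨b₁ * b₂, Submonoid.mul_mem _ hb₁ hb₂, ?_⟩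
    have : (b₁ * b₂) • (y₁ + y₂) = b₂ • (b₁ • y₁) + b₁ • (b₂ • y₂) := by
      rw [smul_add, mul_smul, mul_smul, smul_comm b₁ b₂ y₁]
    rw [this]
    exact Submodule.add_mem _ (Submodule.smul_mem _ _ h₁) (Submodule.smul_mem _ _ h₂)
  | smul k y _ h =>
    obtain ⟨b, hb, h⟩ := h
    obtain ⟨a, b', hk⟩ := IsLocalization.exists_mk'_eq (nonZeroDivisors A) k
    refine ⟨b' * b, Submonoid.mul_mem _ b'.2 hb, ?_⟩
    have h1 : (b' : A) • k = algebraMap A K a := by
      rw [← hk, Algebra.smul_def, mul_comm, IsLocalization.mk'_spec]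
    have : ((b' : A) * b) • (k • y) = a • (b • y) := by
      rw [mul_smul, smul_comm b k y, ← smul_assoc ((b' : A)) k (b • y), h1, algebraMap_smul]
    rw [this]
    exact Submodule.smul_mem _ _ h

section Strict

variable (A S : Type u) [CommRing A] [IsLocalRing A] [IsReduced A]
  [CommRing S] [IsLocalRing S] [Algebra A S] [IsLocalHom (algebraMap A S)]
  [Hensel.IsStrictHenselization A S]

/-- If the total ring of fractions of `D ≤ S` is finitely generated over that of `A`, then `D` is
contained in an essentially étale local subalgebra. -/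
theorem forward (hmin : (minimalPrimes A).Finite) (D : Subalgebra A S)
    (t : Finset (FractionRing D)) (ht : ∀ x : FractionRing D, ∃ a ∈ nonZeroDivisors A,
        algebraMap A (FractionRing D) a * x ∈ Algebra.adjoin A (t : Set (FractionRing D))) :
    ∃ E : Subalgebra A S, D ≤ E ∧ ∃ _ : IsLocalRing E, EGA4loc.IsEssentiallyEtale A E := by
  classical
  have hS : Hensel.IsStrictHenselization A S := inferInstance
  haveI : Module.FaithfullyFlat A S := Groth.Agent.H3.SH.faithfullyFlat A hS
  obtain ⟨b, hb⟩ := IsLocalization.exist_integer_multiples_of_finset (nonZeroDivisors D) t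
  have hd : ∀ τ : FractionRing D, ∃ d : D, τ ∈ t →
      algebraMap D (FractionRing D) d = (b : D) • τ := by
    intro τ
    by_cases hτ : τ ∈ t
    · obtain ⟨d, hd⟩ := hb τ hτ
      exact ⟨d, fun _ => hd⟩
    · exact ⟨0, fun h => absurd h hτ⟩
  choose dfun hdfun using hd
  let T₀ : Finset S := insert ((b : D) : S) (t.image (fun τ => (dfun τ : S)))
  obtain ⟨E, hsub, hEloc, hE⟩ := exists_essEtale_finset A S T₀
  refine ⟨E, ?_, hEloc, hE⟩
  haveI := hEloc
  obtain ⟨hES, hff⟩ := faithfullyFlat_of_isEssentiallyEtale A S E hE
  have hbE : ((b : D) : S) ∈ E := hsub (by simp [T₀])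
  have hdE : ∀ τ ∈ t, (dfun τ : S) ∈ E := fun τ hτ => hsub (by
    simp only [T₀, Finset.coe_insert, Finset.coe_image, Set.mem_insert_iff, Set.mem_image]
    right
    exact ⟨τ, hτ, rfl⟩)
  have hbS : ((b : D) : S) ∈ nonZeroDivisors S :=
    mem_nonZeroDivisors_of_subalgebra A S hmin D b b.2
  -- key claim
  have key : ∀ y ∈ Algebra.adjoin A (t : Set (FractionRing D)), ∃ N : ℕ, ∃ w : D, (w : S) ∈ E ∧
      algebraMap D (FractionRing D) w = algebraMap D (FractionRing D) ((b : D) ^ N) * y := by
    intro y hy
    induction hy using Algebra.adjoin_induction with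
    | mem τ hτ =>
      exact ⟨1, dfun τ, hdE τ hτ, by rw [pow_one, hdfun τ hτ, Algebra.smul_def]⟩
    | algebraMap r =>
      exact ⟨0, algebraMap A D r, E.algebraMap_mem r, by
        rw [pow_zero, map_one, one_mul, ← IsScalarTower.algebraMap_apply]⟩
    | add y₁ y₂ _ _ h₁ h₂ =>
      obtain ⟨N₁, w₁, hw₁, e₁⟩ := h₁
      obtain ⟨N₂, w₂, hw₂, e₂⟩ := h₂
      refine ⟨N₁ + N₂, (b : D) ^ N₂ * w₁ + (b : D) ^ N₁ * w₂, ?_, ?_⟩
      · have : (((b : D) ^ N₂ * w₁ + (b : D) ^ N₁ * w₂ : D) : S) =
            ((b : D) : S) ^ N₂ * (w₁ : S) + ((b : D) : S) ^ N₁ * (w₂ : S) := by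
          push_cast
          rfl
        rw [this]
        exact E.add_mem (E.mul_mem (E.pow_mem hbE _) hw₁) (E.mul_mem (E.pow_mem hbE _) hw₂)
      · rw [map_add, map_mul, map_mul, e₁, e₂, pow_add, map_mul]
        ring
    | mul y₁ y₂ _ _ h₁ h₂ =>
      obtain ⟨N₁, w₁, hw₁, e₁⟩ := h₁
      obtain ⟨N₂, w₂, hw₂, e₂⟩ := h₂
      refine ⟨N₁ + N₂, w₁ * w₂, E.mul_mem hw₁ hw₂, ?_⟩
      rw [map_mul, e₁, e₂, pow_add, map_mul]
      ring
  intro x hxD
  obtain ⟨a, ha, hax⟩ := ht (algebraMap D (FractionRing D) ⟨x, hxD⟩)
  obtain ⟨N, w, hwE, hw⟩ := key _ hax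
  have h1 : w = (b : D) ^ N * (algebraMap A D a * ⟨x, hxD⟩) := by
    apply IsFractionRing.injective D (FractionRing D)
    rw [hw, map_mul, map_mul, ← IsScalarTower.algebraMap_apply A D (FractionRing D)]
  have h2 : (w : S) = ((b : D) : S) ^ N * (algebraMap A S a * x) := by
    have := congrArg (Subtype.val) h1
    rw [this]
    push_cast
    rfl
  let cE : E := ⟨((b : D) : S) ^ N * algebraMap A S a,
    E.mul_mem (E.pow_mem hbE N) (E.algebraMap_mem a)⟩
  let wE : E := ⟨w, hwE⟩
  have haS : algebraMap A S a ∈ nonZeroDivisors S :=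
    Groth.Agent.H78.TotFrac.map_nonZeroDivisors_le_of_flat A S ⟨a, ha, rfl⟩
  have hcS : algebraMap E S cE ∈ nonZeroDivisors S :=
    Submonoid.mul_mem _ (Submonoid.pow_mem _ hbS N) haS
  obtain ⟨r, hr⟩ := exists_algebraMap_eq_of_mul_eq cE wE x hcS (by
    change ((b : D) : S) ^ N * algebraMap A S a * x = (w : S)
    rw [h2, mul_assoc])
  rw [← hr]
  exact r.2

/-- the map on total rings of fractions induced by an inclusion preserving non-zero-divisors is
injective -/
theorem map_fractionRing_injective {D E : Type*} [CommRing D] [CommRing E] (ι : D →+* E)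
    (hιinj : Function.Injective ι) (hι : nonZeroDivisors D ≤ (nonZeroDivisors E).comap ι) :
    Function.Injective (IsLocalization.map (FractionRing E) ι hι :
      FractionRing D →+* FractionRing E) := by
  rw [injective_iff_map_eq_zero]
  intro y hy
  obtain ⟨d, s, rfl⟩ := IsLocalization.exists_mk'_eq (nonZeroDivisors D) y
  rw [IsLocalization.map_mk', IsLocalization.mk'_eq_zero_iff] at hy
  obtain ⟨m, hm⟩ := hy
  have h1 : ι d = 0 := by
    rw [mul_comm] at hm
    exact (mem_nonZeroDivisors_iff_right.mp m.2) _ hm
  have h2 : d = 0 := hιinj (by rw [h1, map_zero])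
  rw [h2, IsLocalization.mk'_zero]

/-- Abstract finiteness transfer: if `KD → F` is an injective ring map of `A`-algebras in which the
non-zero-divisors of `A` are invertible, and `F` is a Noetherian module over the total ring of
fractions `K` of `A`, then `KD` is generated by a finite set up to non-zero-divisors of `A`. -/
theorem exists_finset_of_injective (A : Type u) [CommRing A] (KD F : Type u) [CommRing KD]
    [CommRing F] [Algebra A KD] [Algebra A F] (f : KD →ₐ[A] F) (hf : Function.Injective f)
    (hgD : ∀ y : nonZeroDivisors A, IsUnit (algebraMap A KD y))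
    [Algebra (FractionRing A) F] [IsScalarTower A (FractionRing A) F]
    [IsNoetherian (FractionRing A) F] :
    ∃ t : Finset KD, ∀ x : KD, ∃ a ∈ nonZeroDivisors A,
      algebraMap A KD a * x ∈ Algebra.adjoin A (t : Set KD) := by
  classical
  letI algKD : Algebra (FractionRing A) KD := (IsLocalization.lift hgD).toAlgebra
  haveI : IsScalarTower A (FractionRing A) KD :=
    IsScalarTower.of_algebraMap_eq' (IsLocalization.lift_comp hgD).symm
  have hcomp : (f : KD →+* F).comp (algebraMap (FractionRing A) KD) =
      algebraMap (FractionRing A) F := by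
    apply IsLocalization.ringHom_ext (nonZeroDivisors A)
    ext a
    simp only [RingHom.comp_apply]
    rw [← IsScalarTower.algebraMap_apply A (FractionRing A) KD,
      ← IsScalarTower.algebraMap_apply A (FractionRing A) F]
    exact f.commutes a
  let fK : KD →ₗ[FractionRing A] F :=
    { toFun := f
      map_add' := fun x y => map_add f x y
      map_smul' := fun k y => by
        simp only [RingHom.id_apply]
        rw [Algebra.smul_def, map_mul, Algebra.smul_def, ← hcomp]
        rfl }
  haveI : Module.Finite (FractionRing A) KD := Module.Finite.of_injective fK hf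
  obtain ⟨G, hG⟩ := exists_finset_span A KD
  refine ⟨G, fun x => ?_⟩
  obtain ⟨b, hb, hbx⟩ := hG x
  refine ⟨b, hb, ?_⟩
  rw [← Algebra.smul_def]
  exact Algebra.span_le_adjoin A _ hbx

/-- If `D` is contained in an essentially étale local subalgebra, then its total ring of fractions
is finitely generated over that of `A`. -/
theorem backward (hmin : (minimalPrimes A).Finite) (D E : Subalgebra A S) (hDE : D ≤ E)
    [IsLocalRing E] (hE : EGA4loc.IsEssentiallyEtale A E) :
    ∃ t : Finset (FractionRing D), ∀ x : FractionRing D, ∃ a ∈ nonZeroDivisors A,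
        algebraMap A (FractionRing D) a * x ∈ Algebra.adjoin A (t : Set (FractionRing D)) := by
  classical
  have hS : Hensel.IsStrictHenselization A S := inferInstance
  haveI : Module.FaithfullyFlat A S := Groth.Agent.H3.SH.faithfullyFlat A hS
  obtain ⟨hflat, hqf⟩ := Groth.Agent.H78.TotFrac.flat_quasiFinite_of_isEssentiallyEtale A E hE
  haveI hloc : IsLocalization ((nonZeroDivisors A).map (algebraMap A E)) (FractionRing E) :=
    (Groth.Agent.H78.TotFrac.main_abstract A E hmin).1
  -- the map on total rings of fractions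
  let ι : D →+* E := (Subalgebra.inclusion hDE).toRingHom
  have hιinj : Function.Injective ι := Subalgebra.inclusion_injective hDE
  have hι : nonZeroDivisors D ≤ (nonZeroDivisors E).comap ι := by
    intro s hs
    have hsS := mem_nonZeroDivisors_of_subalgebra A S hmin D s hs
    rw [Submonoid.mem_comap, mem_nonZeroDivisors_iff_right]
    intro z hz
    apply Subtype.ext
    exact (mem_nonZeroDivisors_iff_right.mp hsS) z.1 (congrArg Subtype.val hz)
  have hfinj := map_fractionRing_injective ι hιinj hι
  let f : FractionRing D →ₐ[A] FractionRing E :=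
    { (IsLocalization.map (FractionRing E) ι hι : FractionRing D →+* FractionRing E) with
      commutes' := fun a => by
        change (IsLocalization.map (FractionRing E) ι hι : FractionRing D →+* FractionRing E)
          (algebraMap A (FractionRing D) a) = algebraMap A (FractionRing E) a
        rw [IsScalarTower.algebraMap_apply A D (FractionRing D), IsLocalization.map_eq,
          IsScalarTower.algebraMap_apply A E (FractionRing E)]
        rfl }
  have hf : Function.Injective f := hfinj
  -- units
  have hgD : ∀ y : nonZeroDivisors A, IsUnit (algebraMap A (FractionRing D) y) := by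
    intro y
    rw [IsScalarTower.algebraMap_apply A D (FractionRing D)]
    have hyD : algebraMap A D y ∈ nonZeroDivisors D := by
      rw [mem_nonZeroDivisors_iff_right]
      intro z hz
      have hyS : algebraMap A S y ∈ nonZeroDivisors S :=
        Groth.Agent.H78.TotFrac.map_nonZeroDivisors_le_of_flat A S ⟨y, y.2, rfl⟩
      apply Subtype.ext
      exact (mem_nonZeroDivisors_iff_right.mp hyS) z.1 (congrArg Subtype.val hz)
    exact IsLocalization.map_units (FractionRing D) (⟨algebraMap A D y, hyD⟩ : nonZeroDivisors D)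
  -- `K`-algebra structure on `Frac E`
  have hg : ∀ y : nonZeroDivisors A, IsUnit (algebraMap A (FractionRing E) y) := by
    intro y
    rw [IsScalarTower.algebraMap_apply A E (FractionRing E)]
    exact IsLocalization.map_units (FractionRing E)
      (⟨algebraMap A E y, ⟨y, y.2, rfl⟩⟩ : (nonZeroDivisors A).map (algebraMap A E))
  letI algKF : Algebra (FractionRing A) (FractionRing E) := (IsLocalization.lift hg).toAlgebra
  haveI : IsScalarTower A (FractionRing A) (FractionRing E) :=
    IsScalarTower.of_algebraMap_eq' (IsLocalization.lift_comp hg).symm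
  haveI : Algebra.QuasiFinite A (FractionRing E) :=
    Algebra.QuasiFinite.of_isLocalization ((nonZeroDivisors A).map (algebraMap A E))
  haveI : Algebra.QuasiFinite (FractionRing A) (FractionRing E) :=
    Algebra.QuasiFinite.of_restrictScalars A (FractionRing A) (FractionRing E)
  haveI : IsArtinianRing (FractionRing A) :=
    Groth.Agent.H78.TotFrac.isArtinianRing_of_isLocalization hmin (FractionRing A)
  haveI : Module.Finite (FractionRing A) (FractionRing E) := Module.Finite.of_quasiFinite
  haveI : IsNoetherianRing (FractionRing A) := inferInstance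
  haveI : IsNoetherian (FractionRing A) (FractionRing E) :=
    isNoetherian_of_isNoetherianRing_of_finite (FractionRing A) _
  exact exists_finset_of_injective A (FractionRing D) (FractionRing E) f hf hgD

/-- S16441 -/
theorem main (hmin : (minimalPrimes A).Finite) (D : Subalgebra A S) :
    (∃ t : Finset (FractionRing D), ∀ x : FractionRing D, ∃ a ∈ nonZeroDivisors A,
        algebraMap A (FractionRing D) a * x ∈ Algebra.adjoin A (t : Set (FractionRing D))) ↔
      ∃ E : Subalgebra A S, D ≤ E ∧ ∃ _ : IsLocalRing E, EGA4loc.IsEssentiallyEtale A E := by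
  constructor
  · rintro ⟨t, ht⟩
    exact forward A S hmin D t ht
  · rintro ⟨E, hDE, hEloc, hE⟩
    exact backward A S hmin D E hDE hE

end Strict

end Groth.Agent.H78.FracFG
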